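/-
The chain of parabolic subgroups of type E6: tables of labels and their sums. Generated.
-/
import Cfsg.Agent.Lib.Chev.T3E6
import Cfsg.Agent.Lib.Chev.Count2

set_option autoImplicit false
set_option maxRecDepth 100000

namespace Cfsg.Agent.Lib.Chev

open Cfsg.Lie

/-- Labels and heights, level 0 of type E6. -/
def orbE60 : List (ℕ × ℕ) := [(0xffff00000000000000, 0), (0xf800fc3c0000008000, 1), (0xc700e3838020004000, 2), (0xa4c09b406110002000, 3), (0x641880336003200400, 4), (0x92a056c01488001000, 4), (0x5214402a9402900200, 5), (0x89602dc00a44000800, 5), (0x309210245181840080, 6), (0x490c20198a02480100, 6), (0x69102025038340010, 7), (0x284a08142941420040, 7), (0xd222500000f690, 8), (0x549010128342a0008, 8), (0x1826040c06c0c10020, 8), (0xa911280000ed48, 9), (0x3250080862c190004, 9), (0x6488860000db24, 10), (0xe3004001dc070002, 10), (0x1c4401c000b8e2, 11), (0x1f00000003ff0001, 11), (0x3c0003c087e1, 12), (0x3c0003c00781e, 12), (0x3802238471d, 13), (0x61112624db, 14), (0x14889512b7,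 15), (0xa444b096f, 16)]

theorem chkOrbE60 : digE6.tbl.chkOrb 63 62 0xffff00000000000000 orbE60 = true := by decide +kernel

theorem sumE60 (q : ℕ) : (orbE60.map fun e => q ^ e.2).sum = 1 + q ^ 1 + q ^ 2 + q ^ 3 + 2 * q ^ 4 + 2 * q ^ 5 + 2 * q ^ 6 + 2 * q ^ 7 + 3 * q ^ 8 + 2 * q ^ 9 + 2 * q ^ 10 + 2 * q ^ 11 + 2 * q ^ 12 + q ^ 13 + q ^ 14 + q ^ 15 + q ^ 16 := by
  simp only [orbE60, List.map_cons, List.map_nil, List.sum_cons, List.sum_nil]
  ring

/-- Labels and heights, level 1 of type E6. -/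
def orbE61 : List (ℕ × ℕ) := [(0xffffd2225000000000, 0), (0xffffa9112800000000, 1), (0xffff64888600000000, 2), (0xffff1c4401c0000000, 3), (0xffff003c0003c00000, 4), (0xffff03c0003c000000, 4), (0xffff00038022380000, 5), (0xffff00006111260000, 6), (0xffff00001488950000, 7), (0xffff00000a444b0000, 8)]

theorem chkOrbE61 : digE6.tbl.chkOrb 62 30 0xffffd2225000000000 orbE61 = true := by decide +kernel

theorem sumE61 (q : ℕ) : (orbE61.map fun e => q ^ e.2).sum = 1 + q ^ 1 + q ^ 2 + q ^ 3 + 2 * q ^ 4 + q ^ 5 + q ^ 6 + q ^ 7 + q ^ 8 := by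
  simp only [orbE61, List.map_cons, List.map_nil, List.sum_cons, List.sum_nil]
  ring

/-- Labels and heights, level 2 of type E6. -/
def orbE62 : List (ℕ × ℕ) := [(0xffffffe25000000000, 0), (0xfffff23bd002000000, 1), (0xffffda367101000000, 2), (0xffffd3237030200000, 3), (0xffffd62e5480800000, 3), (0xffffd2a2d428100000, 4), (0xffffd2625198040000, 5), (0xffffd2225003b40000, 6)]

theorem chkOrbE62 : digE6.tbl.chkOrb 30 28 0xffffffe25000000000 orbE62 = true := by decide +kernel

theorem sumE62 (q : ℕ) : (orbE62.map fun e => q ^ e.2).sum = 1 + q ^ 1 + q ^ 2 + 2 * q ^ 3 + q ^ 4 + q ^ 5 + q ^ 6 := by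
  simp only [orbE62, List.map_cons, List.map_nil, List.sum_cons, List.sum_nil]
  ring

/-- Labels and heights, level 3 of type E6. -/
def orbE63 : List (ℕ × ℕ) := [(0xfffffffe5000000000, 0), (0xffffffe3d020000000, 1), (0xffffffe27110000000, 2), (0xffffffe25488000000, 3)]

theorem chkOrbE63 : digE6.tbl.chkOrb 28 24 0xfffffffe5000000000 orbE63 = true := by decide +kernel

theorem sumE63 (q : ℕ) : (orbE63.map fun e => q ^ e.2).sum = 1 + q ^ 1 + q ^ 2 + q ^ 3 := by
  simp only [orbE63, List.map_cons, List.map_nil, List.sum_cons, List.sum_nil]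
  ring

/-- Labels and heights, level 4 of type E6. -/
def orbE64 : List (ℕ × ℕ) := [(0xffffffffd000000000, 0), (0xfffffffe7100000000, 1), (0xfffffffe5480000000, 2)]

theorem chkOrbE64 : digE6.tbl.chkOrb 24 16 0xffffffffd000000000 orbE64 = true := by decide +kernel

theorem sumE64 (q : ℕ) : (orbE64.map fun e => q ^ e.2).sum = 1 + q ^ 1 + q ^ 2 := by
  simp only [orbE64, List.map_cons, List.map_nil, List.sum_cons, List.sum_nil]
  ring

/-- Labels and heights, level 5 of type E6. -/
def orbE65 : List (ℕ × ℕ) := [(0xfffffffff000000000, 0), (0xffffffffd400000000, 1)]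

theorem chkOrbE65 : digE6.tbl.chkOrb 16 0 0xfffffffff000000000 orbE65 = true := by decide +kernel

theorem sumE65 (q : ℕ) : (orbE65.map fun e => q ^ e.2).sum = 1 + q ^ 1 := by
  simp only [orbE65, List.map_cons, List.map_nil, List.sum_cons, List.sum_nil]
  ring

end Cfsg.Agent.Lib.Chev

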