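/-
Orders of Coxeter groups by a chain of parabolic subgroups: cosets of a parabolic subgroup are labelled by
a table closed under the generators (upper bound from the braid relations only), and the action on
subsets of roots gives the lower bound.
-/
import Cfsg.Agent.Lib.Chev.Count2
import Cfsg.Agent.Lib.BN.Coxeter

set_option autoImplicit false

namespace Cfsg.Agent.Lib.Chev

open Cfsg.Agent.Lib.BN (altP altP_mul_inv)

namespace Wey

/-- The table of a level of the chain. -/
structure Lv where
  M : ℕ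
  M' : ℕ
  size : ℕ
  base : ℕ
  bits : ℕ
  mks : ℕ
  acts : ℕ
  dps : ℕ
  pars : ℕ

namespace Lv

variable (lv : Lv)

/-- The mask with label `y`. -/
def mask (y : ℕ) : ℕ := digit lv.mks lv.bits y

/-- The action of a generator on labels. -/
def act (j y : ℕ) : ℕ := digit lv.acts 8 (Nat.add (Nat.mul j lv.size) y)

/-- The depth of a label. -/
def dp (y : ℕ) : ℕ := digit lv.dps 8 y

/-- The first letter of a label. -/
def par (y : ℕ) : ℕ := digit lv.pars 8 y

end Lv

/-- End of an alternating walk. -/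
noncomputable def walkE (act : ℕ → ℕ → ℕ) (k : ℕ) : ℕ → ℕ → ℕ → ℕ :=
  Nat.rec (motive := fun _ => ℕ → ℕ → ℕ → ℕ) (fun _ _ z => z)
    (fun _ ih a b z => ih b a (act a z)) k

/-- All points of an alternating walk have depth below `d`. -/
noncomputable def walkOk (act : ℕ → ℕ → ℕ) (dp : ℕ → ℕ) (d k : ℕ) : ℕ → ℕ → ℕ → Bool :=
  Nat.rec (motive := fun _ => ℕ → ℕ → ℕ → Bool) (fun _ _ z => Nat.blt (dp z) d)
    (fun _ ih a b z => and (Nat.blt (dp z) d) (ih b a (act a z))) k

@[simp] lemma walkE_zero (act : ℕ → ℕ → ℕ) (a b z : ℕ) : walkE act 0 a b z = z := rfl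

@[simp] lemma walkE_succ (act : ℕ → ℕ → ℕ) (k a b z : ℕ) :
    walkE act (k + 1) a b z = walkE act k b a (act a z) := rfl

lemma walkOk_zero (act : ℕ → ℕ → ℕ) (dp : ℕ → ℕ) (d a b z : ℕ) :
    walkOk act dp d 0 a b z = true ↔ dp z < d := by
  show Nat.blt (dp z) d = true ↔ _
  simp [Nat.blt_eq]

lemma walkOk_succ (act : ℕ → ℕ → ℕ) (dp : ℕ → ℕ) (d k a b z : ℕ) :
    walkOk act dp d (k + 1) a b z = true ↔ dp z < d ∧ walkOk act dp d k b a (act a z) = true := by
  show (and (Nat.blt (dp z) d) (walkOk act dp d k b a (act a z))) = true ↔ _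
  simp [Nat.blt_eq]

lemma walkOk_end (act : ℕ → ℕ → ℕ) (dp : ℕ → ℕ) (d k a b z : ℕ) (h : walkOk act dp d k a b z = true) :
    dp (walkE act k a b z) < d := by
  induction k generalizing a b z with
  | zero => exact (walkOk_zero ..).1 h
  | succ k ih => exact ih _ _ _ ((walkOk_succ ..).1 h).2

section Abstract

variable {W : Type*} [Group W] (lv : Lv) (cm : ℕ → ℕ → ℕ) (l : ℕ)

/-- The certificate for a pair of a label and a generator. -/
noncomputable def chkPair (cm : ℕ → ℕ → ℕ) (lv : Lv) (y j : ℕ) : Bool :=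
  cond (Nat.beq (lv.dp (lv.act j y)) (Nat.succ (lv.dp y))) true <|
  cond (Nat.beq (lv.act j y) y)
    (or (Nat.beq (lv.dp y) 0) <|
      and (Nat.ble 2 (cm (lv.par y) j)) <|
      and (walkOk lv.act lv.dp (lv.dp y) (Nat.sub (cm (lv.par y) j) 2) j (lv.par y) (lv.act (lv.par y) y)) <|
      Nat.beq (lv.act (cond (Nat.beq (Nat.mod (cm (lv.par y) j) 2) 1) (lv.par y) j)
          (walkE lv.act (Nat.sub (cm (lv.par y) j) 2) j (lv.par y) (lv.act (lv.par y) y)))
        (walkE lv.act (Nat.sub (cm (lv.par y) j) 2) j (lv.par y) (lv.act (lv.par y) y)))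
    (and (Nat.beq (Nat.succ (lv.dp (lv.act j y))) (lv.dp y)) <|
      or (Nat.beq j (lv.par y)) <|
      and (Nat.ble 1 (cm (lv.par y) j)) <|
      and (walkOk lv.act lv.dp (lv.dp y) (Nat.sub (cm (lv.par y) j) 1) j (lv.par y) (lv.act (lv.par y) y)) <|
      and (walkOk lv.act lv.dp (lv.dp y) (Nat.sub (cm (lv.par y) j) 1) (lv.par y) j (lv.act j y)) <|
      Nat.beq (walkE lv.act (Nat.sub (cm (lv.par y) j) 1) j (lv.par y) (lv.act (lv.par y) y))
        (walkE lv.act (Nat.sub (cm (lv.par y) j) 1) (lv.par y) j (lv.act j y)))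

/-- The properties of a table used for the cosets. -/
structure Ok : Prop where
  base_lt : lv.base < lv.size
  dp_base : lv.dp lv.base = 0
  dp_zero : ∀ y, y < lv.size → lv.dp y = 0 → y = lv.base
  sub : ∀ j, j < l → tbF lv.M' j = true → tbF lv.M j = true
  act_lt : ∀ j y, j < l → tbF lv.M j = true → y < lv.size → lv.act j y < lv.size
  act_act : ∀ j y, j < l → tbF lv.M j = true → y < lv.size → lv.act j (lv.act j y) = y
  par_lt : ∀ y, y < lv.size → lv.dp y ≠ 0 → lv.par y < l ∧ tbF lv.M (lv.par y) = true ∧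
    lv.dp (lv.act (lv.par y) y) + 1 = lv.dp y
  base_fix : ∀ j, j < l → tbF lv.M j = true → lv.act j lv.base = lv.base → tbF lv.M' j = true
  fix_base : ∀ j, j < l → tbF lv.M' j = true → lv.act j lv.base = lv.base
  pair : ∀ y j, y < lv.size → j < l → tbF lv.M j = true → chkPair cm lv y j = true

lemma chkPair_spec {y j : ℕ} (h : chkPair cm lv y j = true) :
    lv.dp (lv.act j y) = lv.dp y + 1 ∨
    (lv.act j y = y ∧ (lv.dp y = 0 ∨ (2 ≤ cm (lv.par y) j ∧
      walkOk lv.act lv.dp (lv.dp y) (cm (lv.par y) j - 2) j (lv.par y) (lv.act (lv.par y) y) = true ∧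
      lv.act (cond (Nat.beq (cm (lv.par y) j % 2) 1) (lv.par y) j)
        (walkE lv.act (cm (lv.par y) j - 2) j (lv.par y) (lv.act (lv.par y) y)) =
        walkE lv.act (cm (lv.par y) j - 2) j (lv.par y) (lv.act (lv.par y) y)))) ∨
    (lv.dp (lv.act j y) + 1 = lv.dp y ∧ (j = lv.par y ∨ (1 ≤ cm (lv.par y) j ∧
      walkOk lv.act lv.dp (lv.dp y) (cm (lv.par y) j - 1) j (lv.par y) (lv.act (lv.par y) y) = true ∧
      walkOk lv.act lv.dp (lv.dp y) (cm (lv.par y) j - 1) (lv.par y) j (lv.act j y) = true ∧
      walkE lv.act (cm (lv.par y) j - 1) j (lv.par y) (lv.act (lv.par y) y) =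
        walkE lv.act (cm (lv.par y) j - 1) (lv.par y) j (lv.act j y)))) := by
  unfold chkPair at h
  by_cases h1 : lv.dp (lv.act j y) = lv.dp y + 1
  · exact Or.inl h1
  · refine Or.inr ?_
    have e1 : Nat.beq (lv.dp (lv.act j y)) (Nat.succ (lv.dp y)) = false := by
      rw [← Bool.not_eq_true, Nat.beq_eq]
      exact h1
    rw [e1, cond_false] at h
    by_cases h2 : lv.act j y = y
    · refine Or.inl ⟨h2, ?_⟩
      have e2 : Nat.beq (lv.act j y) y = true := by rw [Nat.beq_eq]; exact h2
      rw [e2, cond_true] at h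
      simp only [Bool.or_eq_true, Bool.and_eq_true, Nat.beq_eq, Nat.ble_eq] at h
      exact h
    · refine Or.inr ?_
      have e2 : Nat.beq (lv.act j y) y = false := by
        rw [← Bool.not_eq_true, Nat.beq_eq]
        exact h2
      rw [e2, cond_false] at h
      simp only [Bool.or_eq_true, Bool.and_eq_true, Nat.beq_eq, Nat.ble_eq] at h
      exact h

lemma altP_last (a b : W) (n : ℕ) :
    altP a b (n + 1) = altP a b n * (cond (Nat.beq (n % 2) 0) a b) := by
  induction n generalizing a b with
  | zero =>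
    show a * 1 = 1 * a
    group
  | succ n ih =>
    show a * altP b a (n + 1) = (a * altP b a n) * _
    rw [ih b a, mul_assoc]
    congr 2
    rcases Nat.mod_two_eq_zero_or_one n with h | h
    · have h2 : (n + 1) % 2 = 1 := by omega
      rw [h, h2]
      rfl
    · have h2 : (n + 1) % 2 = 0 := by omega
      rw [h, h2]
      rfl

variable {lv cm l}

section Tau

variable {X : Type*} [MulAction W X] (s : ℕ → W) (τ : ℕ → X)

lemma walkE_lt (hok : Ok lv cm l) (k a b z : ℕ) (ha : a < l) (hb : b < l) (hJa : tbF lv.M a = true)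
    (hJb : tbF lv.M b = true) (hz : z < lv.size) : walkE lv.act k a b z < lv.size := by
  induction k generalizing a b z with
  | zero => exact hz
  | succ k ih => exact ih _ _ _ hb ha hJb hJa (hok.act_lt a z ha hJa hz)

variable {s τ}

lemma tau_walk (hok : Ok lv cm l) {d : ℕ}
    (hQ : ∀ y j, y < lv.size → j < l → tbF lv.M j = true → lv.dp y ≤ d → lv.dp (lv.act j y) ≤ d →
      s j • τ y = τ (lv.act j y))
    (k a b z : ℕ) (ha : a < l) (hb : b < l) (hJa : tbF lv.M a = true)
    (hJb : tbF lv.M b = true) (hz : z < lv.size)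
    (hw : walkOk lv.act lv.dp (d + 1) k a b z = true) :
    τ z = altP (s a) (s b) k • τ (walkE lv.act k a b z) := by
  induction k generalizing a b z with
  | zero => simp [altP]
  | succ k ih =>
    obtain ⟨h1, h2⟩ := (walkOk_succ ..).1 hw
    have h3 : lv.dp (lv.act a z) < d + 1 := by
      cases k with
      | zero => exact (walkOk_zero ..).1 h2
      | succ k => exact ((walkOk_succ ..).1 h2).1
    have hz1 := hok.act_lt a z ha hJa hz
    have e1 := hQ (lv.act a z) a hz1 ha hJa (by omega) (by
      rw [hok.act_act a z ha hJa hz]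
      omega)
    rw [hok.act_act a z ha hJa hz] at e1
    rw [← e1, ih b a _ hb ha hJb hJa hz1 h2, smul_smul]
    rfl

/-- The table describes the action of the generators on the points `τ y`. -/
theorem smul_tau (hok : Ok lv cm l)
    (hs : ∀ j, j < l → tbF lv.M j = true → s j * s j = 1)
    (hbr : ∀ i j, i < l → j < l → tbF lv.M i = true → tbF lv.M j = true →
      altP (s i) (s j) (cm i j) = altP (s j) (s i) (cm i j))
    (hτ : ∀ y, y < lv.size → lv.dp y ≠ 0 → τ y = s (lv.par y) • τ (lv.act (lv.par y) y))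
    (hbase : ∀ j, j < l → tbF lv.M j = true → lv.act j lv.base = lv.base → s j • τ lv.base = τ lv.base)
    (d : ℕ) : ∀ y j, y < lv.size → j < l → tbF lv.M j = true → lv.dp y ≤ d → lv.dp (lv.act j y) ≤ d →
      s j • τ y = τ (lv.act j y) := by
  induction d with
  | zero =>
    intro y j hy hj hJ h1 h2
    have e1 := hok.dp_zero y hy (by omega)
    have e2 := hok.dp_zero _ (hok.act_lt j y hj hJ hy) (by omega)
    subst e1
    rw [e2]
    exact hbase j hj hJ e2
  | succ d ih =>
    have core : ∀ y j, y < lv.size → j < l → tbF lv.M j = true → lv.dp y = d + 1 →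
        lv.dp (lv.act j y) ≤ d + 1 → s j • τ y = τ (lv.act j y) := by
      intro y j hy hj hJ h1 h2
      have hne : lv.dp y ≠ 0 := by omega
      obtain ⟨hi, hJi, hpd⟩ := hok.par_lt y hy hne
      set i := lv.par y with hidef
      have hy1 := hok.act_lt i y hi hJi hy
      have e_y := hτ y hy hne
      have hcases := chkPair_spec lv cm (hok.pair y j hy hj hJ)
      rcases hcases with h3 | ⟨h3, h4 | ⟨hm, hw, hc⟩⟩ | ⟨h3, h4 | ⟨hm, hw1, hw2, he⟩⟩
      · omega
      · omega
      · -- a fixed label
        rw [h3]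
        set m := cm i j with hmdef
        obtain ⟨n, hn⟩ : ∃ n, m = n + 2 := ⟨m - 2, by omega⟩
        have hsub : m - 2 = n := by omega
        rw [hsub] at hw hc
        rw [h1] at hw
        set z := walkE lv.act n j i (lv.act i y) with hz
        have hzl : z < lv.size := walkE_lt hok n j i _ hj hi hJ hJi hy1
        have hzd : lv.dp z < d + 1 := walkOk_end _ _ _ _ _ _ _ hw
        have e1 := tau_walk hok ih n j i _ hj hi hJ hJi hy1 hw
        rw [← hz] at e1
        have e2 : τ y = altP (s i) (s j) (n + 1) • τ z := by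
          rw [e_y, e1, smul_smul]
          rfl
        set c := cond (Nat.beq (m % 2) 1) i j with hcdef
        have hcl : c < l ∧ tbF lv.M c = true := by
          rw [hcdef]
          cases Nat.beq (m % 2) 1
          · exact ⟨hj, hJ⟩
          · exact ⟨hi, hJi⟩
        have e3 : s c • τ z = τ z := by
          have := ih z c hzl hcl.1 hcl.2 (by omega) (by rw [hc]; omega)
          rwa [hc] at this
        have e4 : altP (s i) (s j) (n + 2) = altP (s i) (s j) (n + 1) * s c := by
          rw [altP_last]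
          congr 1
          rw [hcdef, hn]
          rcases Nat.mod_two_eq_zero_or_one (n + 1) with h | h
          · have h2 : (n + 1 + 1) % 2 = 1 := by omega
            rw [h, show n + 2 = n + 1 + 1 from rfl, h2]
            rfl
          · have h2 : (n + 1 + 1) % 2 = 0 := by omega
            rw [h, show n + 2 = n + 1 + 1 from rfl, h2]
            rfl
        have hb := hbr i j hi hj hJi hJ
        rw [← hmdef, hn] at hb
        calc s j • τ y = (s j * altP (s i) (s j) (n + 1)) • τ z := by rw [e2, smul_smul]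
          _ = altP (s j) (s i) (n + 2) • τ z := rfl
          _ = altP (s i) (s j) (n + 2) • τ z := by rw [hb]
          _ = altP (s i) (s j) (n + 1) • (s c • τ z) := by rw [e4, smul_smul]
          _ = τ y := by rw [e3, e2]
      · -- the parent
        rw [h4, ← hidef]
        rw [h4, ← hidef] at h3
        rw [e_y, smul_smul, hs i hi hJi, one_smul]
      · -- a second descent
        set m := cm i j with hmdef
        obtain ⟨n, hn⟩ : ∃ n, m = n + 1 := ⟨m - 1, by omega⟩
        have hsub : m - 1 = n := by omega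
        rw [hsub] at hw1 hw2 he
        rw [h1] at hw1 hw2
        have hy2 := hok.act_lt j y hj hJ hy
        set z := walkE lv.act n j i (lv.act i y) with hz
        have e1 := tau_walk hok ih n j i _ hj hi hJ hJi hy1 hw1
        have e2 := tau_walk hok ih n i j _ hi hj hJi hJ hy2 hw2
        rw [← hz] at e1
        rw [← he] at e2
        have e3 : τ y = altP (s i) (s j) (n + 1) • τ z := by
          rw [e_y, e1, smul_smul]
          rfl
        have hb := hbr i j hi hj hJi hJ
        rw [← hmdef, hn] at hb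
        rw [e3, hb, e2, smul_smul]
        show (s j * (s j * altP (s i) (s j) n)) • τ z = _
        rw [← mul_assoc, hs j hj hJ, one_mul]
    intro y j hy hj hJ h1 h2
    by_cases h3 : lv.dp y ≤ d
    · by_cases h4 : lv.dp (lv.act j y) ≤ d
      · exact ih y j hy hj hJ h3 h4
      · have hy' := hok.act_lt j y hj hJ hy
        have e := core _ j hy' hj hJ (by omega) (by rw [hok.act_act j y hj hJ hy]; omega)
        rw [hok.act_act j y hj hJ hy] at e
        rw [← e, smul_smul, hs j hj hJ, one_smul]
    · exact core y j hy hj hJ (by omega) h2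

end Tau

end Abstract

section Cosets

variable {W : Type*} [Group W] {lv : Lv} {cm : ℕ → ℕ → ℕ} {l : ℕ} {s : ℕ → W}

/-- The parabolic subgroup of a mask. -/
def parab (s : ℕ → W) (l M : ℕ) : Subgroup W := Subgroup.closure (s '' {j | j < l ∧ tbF M j = true})

lemma s_mem_parab {j M : ℕ} (hj : j < l) (hJ : tbF M j = true) : s j ∈ parab s l M :=
  Subgroup.subset_closure ⟨j, ⟨hj, hJ⟩, rfl⟩

/-- The word of a label. -/
def tw (s : ℕ → W) (lv : Lv) : ℕ → ℕ → W
  | 0, _ => 1
  | n + 1, y => s (lv.par y) * tw s lv n (lv.act (lv.par y) y)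

/-- The coset representative of a label. -/
def ty (s : ℕ → W) (lv : Lv) (y : ℕ) : W := tw s lv (lv.dp y) y

lemma ty_base (hok : Ok lv cm l) : ty s lv lv.base = 1 := by
  unfold ty
  rw [hok.dp_base]
  rfl

lemma ty_par (hok : Ok lv cm l) {y : ℕ} (hy : y < lv.size) (h0 : lv.dp y ≠ 0) :
    ty s lv y = s (lv.par y) * ty s lv (lv.act (lv.par y) y) := by
  have h := (hok.par_lt y hy h0).2.2
  unfold ty
  rw [← h]
  rfl

lemma ty_mem (hok : Ok lv cm l) (n : ℕ) {y : ℕ} (hy : y < lv.size) (hn : lv.dp y = n) :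
    ty s lv y ∈ parab s l lv.M := by
  induction n generalizing y with
  | zero =>
    rw [hok.dp_zero y hy hn, ty_base hok]
    exact one_mem _
  | succ n ih =>
    have h0 : lv.dp y ≠ 0 := by omega
    obtain ⟨h1, h2, h3⟩ := hok.par_lt y hy h0
    rw [ty_par hok hy h0]
    exact mul_mem (s_mem_parab h1 h2) (ih (hok.act_lt _ y h1 h2 hy) (by omega))

lemma parab_mono (hok : Ok lv cm l) : parab s l lv.M' ≤ parab s l lv.M := by
  refine (Subgroup.closure_le _).2 ?_
  rintro _ ⟨j, ⟨hj, hJ⟩, rfl⟩
  exact s_mem_parab hj (hok.sub j hj hJ)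

/-- The cosets of the smaller parabolic subgroup given by the labels cover the larger one. -/
theorem cover (hok : Ok lv cm l)
    (hs : ∀ j, j < l → tbF lv.M j = true → s j * s j = 1)
    (hbr : ∀ i j, i < l → j < l → tbF lv.M i = true → tbF lv.M j = true →
      altP (s i) (s j) (cm i j) = altP (s j) (s i) (cm i j)) {g : W} (hg : g ∈ parab s l lv.M) :
    ∃ y, y < lv.size ∧ (ty s lv y)⁻¹ * g ∈ parab s l lv.M' := by
  set W' := parab s l lv.M' with hW'
  let τ : ℕ → W ⧸ W' := fun y => ((ty s lv y : W) : W ⧸ W')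
  have hτ : ∀ y, y < lv.size → lv.dp y ≠ 0 → τ y = s (lv.par y) • τ (lv.act (lv.par y) y) := by
    intro y hy h0
    show ((ty s lv y : W) : W ⧸ W') = _
    rw [ty_par hok hy h0]
    rfl
  have hbase : ∀ j, j < l → tbF lv.M j = true → lv.act j lv.base = lv.base →
      s j • τ lv.base = τ lv.base := by
    intro j hj hJ hfix
    show s j • ((ty s lv lv.base : W) : W ⧸ W') = ((ty s lv lv.base : W) : W ⧸ W')
    rw [ty_base hok]
    show ((s j * 1 : W) : W ⧸ W') = _
    rw [QuotientGroup.eq]
    have := s_mem_parab (s := s) hj (hok.base_fix j hj hJ hfix)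
    simpa using this
  have hact : ∀ y j, y < lv.size → j < l → tbF lv.M j = true → s j • τ y = τ (lv.act j y) :=
    fun y j hy hj hJ => smul_tau hok hs hbr hτ hbase (max (lv.dp y) (lv.dp (lv.act j y))) y j hy hj hJ
      (le_max_left _ _) (le_max_right _ _)
  have hP : ∃ y, y < lv.size ∧ (g : W ⧸ W') = τ y := by
    induction hg using Subgroup.closure_induction_left with
    | one =>
      refine ⟨lv.base, hok.base_lt, ?_⟩
      show _ = ((ty s lv lv.base : W) : W ⧸ W')
      rw [ty_base hok]
    | mul_left x hx g _ ih =>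
      obtain ⟨j, ⟨hj, hJ⟩, rfl⟩ := hx
      obtain ⟨y, hy, e⟩ := ih
      refine ⟨lv.act j y, hok.act_lt j y hj hJ hy, ?_⟩
      rw [← hact y j hy hj hJ, ← e]
      rfl
    | inv_mul_cancel x hx g _ ih =>
      obtain ⟨j, ⟨hj, hJ⟩, rfl⟩ := hx
      obtain ⟨y, hy, e⟩ := ih
      refine ⟨lv.act j y, hok.act_lt j y hj hJ hy, ?_⟩
      rw [← hact y j hy hj hJ, ← e, inv_eq_of_mul_eq_one_left (hs j hj hJ)]
      rfl
  obtain ⟨y, hy, e⟩ := hP
  refine ⟨y, hy, ?_⟩
  exact QuotientGroup.eq.1 e.symm

/-- The bound from above. -/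
theorem card_upper (hok : Ok lv cm l) [Finite (parab s l lv.M')]
    (hs : ∀ j, j < l → tbF lv.M j = true → s j * s j = 1)
    (hbr : ∀ i j, i < l → j < l → tbF lv.M i = true → tbF lv.M j = true →
      altP (s i) (s j) (cm i j) = altP (s j) (s i) (cm i j)) :
    Finite (parab s l lv.M) ∧ Nat.card (parab s l lv.M) ≤ lv.size * Nat.card (parab s l lv.M') := by
  have hc := fun g : parab s l lv.M => cover hok hs hbr g.2
  choose f hf1 hf2 using hc
  let φ : parab s l lv.M → Fin lv.size × parab s l lv.M' := fun g => (⟨f g, hf1 g⟩, ⟨_, hf2 g⟩)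
  have hinj : Function.Injective φ := by
    intro g g' e
    have e1 : f g = f g' := congrArg (fun p => (p.1 : ℕ)) e
    have e2 : (ty s lv (f g))⁻¹ * (g : W) = (ty s lv (f g'))⁻¹ * (g' : W) :=
      congrArg (fun p => ((p.2 : parab s l lv.M') : W)) e
    rw [e1] at e2
    exact Subtype.ext (mul_left_cancel e2)
  refine ⟨Finite.of_injective φ hinj, ?_⟩
  have := Nat.card_le_card_of_injective φ hinj
  rwa [Nat.card_prod, Nat.card_fin] at this

/-- The set of a mask. -/
def mset {N : ℕ} (m : ℕ) : Set (Fin N) := {b | m.testBit b = true}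

variable {N : ℕ} {ρ : W →* Equiv.Perm (Fin N)}

/-- The hypotheses for the bound from below. -/
structure OkM (lv : Lv) (l : ℕ) (s : ℕ → W) (ρ : W →* Equiv.Perm (Fin N)) : Prop where
  img : ∀ j y, j < l → tbF lv.M j = true → y < lv.size →
    (ρ (s j)) '' mset (lv.mask y) = mset (lv.mask (lv.act j y))
  inj : ∀ y z, y < lv.size → z < lv.size → (mset (lv.mask y) : Set (Fin N)) = mset (lv.mask z) → y = z

lemma ty_img (hok : Ok lv cm l) (hm : OkM lv l s ρ) (n : ℕ) {y : ℕ} (hy : y < lv.size) (hn : lv.dp y = n) :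
    (ρ (ty s lv y)) '' mset (lv.mask lv.base) = mset (lv.mask y) := by
  induction n generalizing y with
  | zero =>
    rw [hok.dp_zero y hy hn, ty_base hok]
    simp
  | succ n ih =>
    have h0 : lv.dp y ≠ 0 := by omega
    obtain ⟨h1, h2, h3⟩ := hok.par_lt y hy h0
    have hy1 := hok.act_lt _ y h1 h2 hy
    rw [ty_par hok hy h0, map_mul, Equiv.Perm.coe_mul, Set.image_comp, ih hy1 (by omega),
      hm.img _ _ h1 h2 hy1, hok.act_act _ y h1 h2 hy]

lemma stab_img (hok : Ok lv cm l) (hm : OkM lv l s ρ) {h : W} (hh : h ∈ parab s l lv.M') :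
    (ρ h) '' mset (lv.mask lv.base) = mset (lv.mask lv.base) := by
  induction hh using Subgroup.closure_induction with
  | mem x hx =>
    obtain ⟨j, ⟨hj, hJ⟩, rfl⟩ := hx
    rw [hm.img j _ hj (hok.sub j hj hJ) hok.base_lt, hok.fix_base j hj hJ]
  | one => simp
  | mul a b _ _ ha hb =>
    rw [map_mul, Equiv.Perm.coe_mul, Set.image_comp, hb, ha]
  | inv a _ ha =>
    conv_lhs => rw [← ha]
    rw [← Set.image_comp, map_inv]
    simp

/-- The bound from below. -/
theorem card_lower (hok : Ok lv cm l) (hm : OkM lv l s ρ) :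
    lv.size * Nat.card ((parab s l lv.M').map ρ) ≤ Nat.card ((parab s l lv.M).map ρ) := by
  let φ : Fin lv.size × (parab s l lv.M').map ρ → (parab s l lv.M).map ρ := fun p =>
    ⟨ρ (ty s lv p.1) * (p.2 : Equiv.Perm (Fin N)), mul_mem (Subgroup.mem_map_of_mem ρ (ty_mem hok _ p.1.2 rfl))
      (Subgroup.map_mono (parab_mono hok) p.2.2)⟩
  have hinj : Function.Injective φ := by
    rintro ⟨y, γ⟩ ⟨z, γ'⟩ e
    have e0 : ρ (ty s lv y) * (γ : Equiv.Perm (Fin N)) = ρ (ty s lv z) * (γ' : Equiv.Perm (Fin N)) :=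
      congrArg Subtype.val e
    have hfix : ∀ c : (parab s l lv.M').map ρ,
        (c : Equiv.Perm (Fin N)) '' mset (lv.mask lv.base) = mset (lv.mask lv.base) := by
      rintro ⟨_, h, hh, rfl⟩
      exact stab_img hok hm hh
    have e1 : (ρ (ty s lv y) * (γ : Equiv.Perm (Fin N))) '' mset (lv.mask lv.base) =
        (mset (lv.mask y) : Set (Fin N)) := by
      rw [Equiv.Perm.coe_mul, Set.image_comp, hfix γ, ty_img hok hm _ y.2 rfl]
    have e2 : (ρ (ty s lv z) * (γ' : Equiv.Perm (Fin N))) '' mset (lv.mask lv.base) =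
        (mset (lv.mask z) : Set (Fin N)) := by
      rw [Equiv.Perm.coe_mul, Set.image_comp, hfix γ', ty_img hok hm _ z.2 rfl]
    rw [e0, e2] at e1
    have e3 : y = z := Fin.ext (hm.inj _ _ y.2 z.2 e1.symm)
    subst e3
    have e4 : (γ : Equiv.Perm (Fin N)) = γ' := mul_left_cancel e0
    rw [Subtype.ext e4]
  have := Nat.card_le_card_of_injective φ hinj
  rwa [Nat.card_prod, Nat.card_fin] at this

end Cosets

section Chain

variable {W : Type*} [Group W] {cm : ℕ → ℕ → ℕ} {l : ℕ} {s : ℕ → W} {N : ℕ} {ρ : W →* Equiv.Perm (Fin N)}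

/-- A step of the chain. -/
theorem chain_step {lv : Lv} (hok : Ok lv cm l) (hm : OkM lv l s ρ)
    (hs : ∀ j, j < l → tbF lv.M j = true → s j * s j = 1)
    (hbr : ∀ i j, i < l → j < l → tbF lv.M i = true → tbF lv.M j = true →
      altP (s i) (s j) (cm i j) = altP (s j) (s i) (cm i j)) {c : ℕ}
    (hfin : Finite (parab s l lv.M')) (h1 : Nat.card (parab s l lv.M') = c)
    (h2 : Nat.card ((parab s l lv.M').map ρ) = c) :
    Finite (parab s l lv.M) ∧ Nat.card (parab s l lv.M) = lv.size * c ∧
      Nat.card ((parab s l lv.M).map ρ) = lv.size * c := by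
  obtain ⟨hf, hu⟩ := card_upper hok hs hbr
  have hl := card_lower hok hm
  rw [h1] at hu
  rw [h2] at hl
  have hsurj : Nat.card ((parab s l lv.M).map ρ) ≤ Nat.card (parab s l lv.M) :=
    Nat.card_le_card_of_surjective (fun g : parab s l lv.M => (⟨ρ g, Subgroup.mem_map_of_mem ρ g.2⟩ : (parab s l lv.M).map ρ))
      (by
        rintro ⟨_, h, hh, rfl⟩
        exact ⟨⟨h, hh⟩, rfl⟩)
  refine ⟨hf, ?_, ?_⟩ <;> omega

/-- The check of a level against tables. -/
noncomputable def chkLv (T : Tbl) (cm : ℕ → ℕ → ℕ) (lv : Lv) : Bool :=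
  and (Nat.blt lv.base lv.size) <|
  and (Nat.beq (lv.dp lv.base) 0) <|
  and (allBelow lv.size fun y => or (not (Nat.beq (lv.dp y) 0)) (Nat.beq y lv.base)) <|
  and (allBelow T.l fun j => or (not (tbF lv.M' j)) (tbF lv.M j)) <|
  and (allBelow T.l fun j => or (not (tbF lv.M j)) <| allBelow lv.size fun y =>
      and (Nat.blt (lv.act j y) lv.size) <|
      and (Nat.beq (lv.act j (lv.act j y)) y) <|
      and (Nat.beq (T.reflMask j (lv.mask y)) (lv.mask (lv.act j y))) (chkPair cm lv y j)) <|
  and (allBelow lv.size fun y => or (Nat.beq (lv.dp y) 0) <|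
      and (Nat.blt (lv.par y) T.l) <| and (tbF lv.M (lv.par y)) <|
        Nat.beq (Nat.succ (lv.dp (lv.act (lv.par y) y))) (lv.dp y)) <|
  and (allBelow T.l fun j =>
      cond (tbF lv.M' j) (Nat.beq (lv.act j lv.base) lv.base)
        (or (not (tbF lv.M j)) (not (Nat.beq (lv.act j lv.base) lv.base)))) <|
  and (allBelow lv.size fun y => Nat.blt (lv.mask y) (Nat.pow 2 T.n)) <|
  allBelow lv.size fun y => allBelow y fun z => not (Nat.beq (lv.mask y) (lv.mask z))

/-- The check of a chain. -/
noncomputable def chkChain (T : Tbl) (cm : ℕ → ℕ → ℕ) (L : List Lv) : ℕ → Bool :=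
  List.rec (motive := fun _ => ℕ → Bool) (fun M => Nat.beq M 0)
    (fun lv _ ih M => and (Nat.beq lv.M M) (and (chkLv T cm lv) (ih lv.M'))) L

/-- Iteration of a product of two reflections. -/
noncomputable def iterRR (T : Tbl) (i j r k : ℕ) : ℕ :=
  Nat.rec (motive := fun _ => ℕ) r (fun _ ih => T.refl i (T.refl j ih)) k

/-- The relations hold on the roots. -/
noncomputable def chkRel (T : Tbl) (cm : ℕ → ℕ → ℕ) : Bool :=
  allBelow T.l fun i => allBelow T.l fun j => allBelow T.n fun r => Nat.beq (iterRR T i j r (cm i j)) r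

/-- The properties of a table from its check. -/
theorem ok_of_chk {T : Tbl} {lv : Lv} (h : chkLv T cm lv = true) : Ok lv cm T.l := by
  unfold chkLv at h
  simp only [Bool.and_eq_true] at h
  obtain ⟨h1, h2, h3, h4, h5, h6, h7, -, -⟩ := h
  have hb : ∀ a b : ℕ, Nat.beq a b = true → a = b := fun a b h => Nat.eq_of_beq_eq_true h
  have hlt : ∀ a b : ℕ, Nat.blt a b = true → a < b := fun a b h => by simpa [Nat.blt_eq] using h
  refine ⟨hlt _ _ h1, hb _ _ h2, ?_, ?_, ?_, ?_, ?_, ?_, ?_, ?_⟩
  · intro y hy h0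
    have := allBelow_spec h3 y hy
    rw [Bool.or_eq_true] at this
    rcases this with h' | h'
    · rw [h0] at h'
      exact absurd h' (by simp)
    · exact hb _ _ h'
  · intro j hj hJ
    have := allBelow_spec h4 j hj
    rw [hJ] at this
    simpa using this
  · intro j y hj hJ hy
    have := allBelow_spec h5 j hj
    rw [hJ] at this
    have h' := allBelow_spec (by simpa using this) y hy
    simp only [Bool.and_eq_true] at h'
    exact hlt _ _ h'.1
  · intro j y hj hJ hy
    have := allBelow_spec h5 j hj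
    rw [hJ] at this
    have h' := allBelow_spec (by simpa using this) y hy
    simp only [Bool.and_eq_true] at h'
    exact hb _ _ h'.2.1
  · intro y hy h0
    have := allBelow_spec h6 y hy
    rw [Bool.or_eq_true] at this
    rcases this with h' | h'
    · exact absurd (hb _ _ h') h0
    · simp only [Bool.and_eq_true] at h'
      exact ⟨hlt _ _ h'.1, h'.2.1, hb _ _ h'.2.2⟩
  · intro j hj hJ hf
    have := allBelow_spec h7 j hj
    cases e : tbF lv.M' j with
    | true => rfl
    | false =>
      rw [e, hJ, show Nat.beq (lv.act j lv.base) lv.base = true by simp [hf]] at this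
      simp at this
  · intro j hj hJ
    have := allBelow_spec h7 j hj
    rw [hJ] at this
    exact hb _ _ this
  · intro y j hy hj hJ
    have := allBelow_spec h5 j hj
    rw [hJ] at this
    have h' := allBelow_spec (by simpa using this) y hy
    simp only [Bool.and_eq_true] at h'
    exact h'.2.2.2

section Table

/-- The reflections of the table are involutions on `N` points. -/
structure InvT (T : Tbl) (N : ℕ) : Prop where
  n_eq : T.n = N
  lt : ∀ i r, i < T.l → r < N → T.refl i r < N
  inv : ∀ i r, i < T.l → r < N → T.refl i (T.refl i r) = r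

lemma invT_of_good {D : Cfsg.Lie.ChevalleyDatum} {T : Tbl} (hG : T.Good2 D) : InvT T D.nroots := by
  refine ⟨hG.correct.n_eq, ?_, ?_⟩
  · intro i r hi hr
    exact hG.n_lt ((hG.facts).refl_lt i r hi (hG.lt_n hr))
  · intro i r hi hr
    exact (hG.facts).refl_refl i r hi (hG.lt_n hr)

variable {T : Tbl} {N : ℕ} (hI : InvT T N)

include hI in
/-- The bits of a reflected mask. -/
lemma reflMask_bit {j b : ℕ} (hj : j < T.l) (hb : b < N) (m : ℕ) :
    (T.reflMask j m).testBit b = m.testBit (T.refl j b) := by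
  have h : (T.reflMask j m).testBit b = true ↔ m.testBit (T.refl j b) = true := by
    unfold Tbl.reflMask
    rw [foldrF_eq, rangeF_eq, testBit_fold]
    constructor
    · rintro ⟨r, hr, h1, h2⟩
      have hr' : r < N := by
        have := List.mem_range.1 hr
        rwa [hI.n_eq] at this
      rw [← h2, hI.inv j r hj hr']
      exact h1
    · intro h1
      exact ⟨T.refl j b, List.mem_range.2 (by rw [hI.n_eq]; exact hI.lt j b hj hb), h1, hI.inv j b hj hb⟩
  cases h1 : (T.reflMask j m).testBit b <;> cases h2 : m.testBit (T.refl j b) <;> simp_all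

/-- The simple reflection as a permutation of the roots. -/
def rP (i : ℕ) (hi : i < T.l) : Equiv.Perm (Fin N) where
  toFun r := ⟨T.refl i r, hI.lt i r hi r.2⟩
  invFun r := ⟨T.refl i r, hI.lt i r hi r.2⟩
  left_inv r := Fin.ext (hI.inv i r hi r.2)
  right_inv r := Fin.ext (hI.inv i r hi r.2)

lemma rP_pow (i j : ℕ) (hi : i < T.l) (hj : j < T.l) (k : ℕ) (r : Fin N) :
    (((rP hI i hi * rP hI j hj) ^ k) r).val = iterRR T i j r k := by
  induction k with
  | zero => rfl
  | succ k ih =>
    rw [pow_succ', Equiv.Perm.mul_apply, Equiv.Perm.mul_apply]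
    show T.refl i (T.refl j _) = T.refl i (T.refl j (iterRR T i j r k))
    rw [ih]

lemma rP_rel (hrel : chkRel T cm = true) (i j : ℕ) (hi : i < T.l) (hj : j < T.l) :
    (rP hI i hi * rP hI j hj) ^ cm i j = 1 := by
  ext r
  rw [rP_pow]
  have h := allBelow_spec (allBelow_spec (allBelow_spec hrel i hi) j hj) r (by rw [hI.n_eq]; exact r.2)
  exact Nat.eq_of_beq_eq_true h

variable {ρ' : W →* Equiv.Perm (Fin N)}

include hI in
/-- The action on masks from the check. -/
theorem okM_of_chk {lv : Lv} (h : chkLv T cm lv = true)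
    (hρ : ∀ j, j < T.l → ∀ b : Fin N, ((ρ' (s j)) b).val = T.refl j b) :
    OkM lv T.l s ρ' := by
  unfold chkLv at h
  simp only [Bool.and_eq_true] at h
  obtain ⟨-, -, -, -, h5, -, -, h8, h9⟩ := h
  refine ⟨?_, ?_⟩
  · intro j y hj hJ hy
    have := allBelow_spec h5 j hj
    rw [hJ] at this
    have h' := allBelow_spec (by simpa using this) y hy
    simp only [Bool.and_eq_true] at h'
    have e : T.reflMask j (lv.mask y) = lv.mask (lv.act j y) := Nat.eq_of_beq_eq_true h'.2.2.1
    ext b
    simp only [mset, Set.mem_image, Set.mem_ofPred_eq]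
    rw [← e, reflMask_bit hI hj b.2]
    constructor
    · rintro ⟨a, ha, rfl⟩
      rw [hρ j hj, hI.inv j a hj a.2]
      exact ha
    · intro hb
      have hlt := hI.lt j b hj b.2
      refine ⟨⟨T.refl j b, hlt⟩, hb, ?_⟩
      apply Fin.ext
      rw [hρ j hj]
      exact hI.inv j b hj b.2
  · intro y z hy hz e
    have hbd : ∀ y, y < lv.size → lv.mask y < 2 ^ N := by
      intro y hy
      have := allBelow_spec h8 y hy
      rw [← hI.n_eq]
      simpa [Nat.blt_eq] using this
    have emask : lv.mask y = lv.mask z := by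
      apply Nat.eq_of_testBit_eq
      intro i
      by_cases hi : i < N
      · have := Set.ext_iff.1 e ⟨i, hi⟩
        simp only [mset, Set.mem_ofPred_eq] at this
        cases h1 : (lv.mask y).testBit i <;> cases h2 : (lv.mask z).testBit i <;> simp_all
      · have hp : 2 ^ N ≤ 2 ^ i := Nat.pow_le_pow_right (by norm_num) (by omega)
        rw [Nat.testBit_lt_two_pow (lt_of_lt_of_le (hbd y hy) hp),
          Nat.testBit_lt_two_pow (lt_of_lt_of_le (hbd z hz) hp)]
    have hne : ∀ y z, y < lv.size → z < y → lv.mask y ≠ lv.mask z := by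
      intro y z hy hz e
      have := allBelow_spec (allBelow_spec h9 y hy) z hz
      rw [e] at this
      simp at this
    rcases lt_trichotomy y z with h1 | h1 | h1
    · exact absurd emask.symm (hne z y hz h1)
    · exact h1
    · exact absurd emask (hne y z hy h1)

include hI in
/-- The whole chain. -/
theorem chain_all (hs : ∀ j, j < T.l → s j * s j = 1)
    (hbr : ∀ i j, i < T.l → j < T.l → altP (s i) (s j) (cm i j) = altP (s j) (s i) (cm i j))
    (hρ : ∀ j, j < T.l → ∀ b : Fin N, ((ρ' (s j)) b).val = T.refl j b)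
    (L : List Lv) : ∀ M, chkChain T cm L M = true →
      Finite (parab s T.l M) ∧ Nat.card (parab s T.l M) = (L.map Lv.size).prod ∧
        Nat.card ((parab s T.l M).map ρ') = (L.map Lv.size).prod := by
  induction L with
  | nil =>
    intro M hM
    have e : M = 0 := Nat.eq_of_beq_eq_true hM
    subst e
    have e1 : parab s T.l 0 = ⊥ := by
      unfold parab
      have : {j | j < T.l ∧ tbF 0 j = true} = ∅ := by
        ext j
        simp [tbF]
      rw [this, Set.image_empty, Subgroup.closure_empty]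
    rw [e1, Subgroup.map_bot]
    simp only [List.map_nil, List.prod_nil, Subgroup.card_bot, and_true]
    infer_instance
  | cons lv L ih =>
    intro M hM
    have hM' : (and (Nat.beq lv.M M) (and (chkLv T cm lv) (chkChain T cm L lv.M'))) = true := hM
    simp only [Bool.and_eq_true] at hM'
    obtain ⟨h1, h2, h3⟩ := hM'
    have e : lv.M = M := Nat.eq_of_beq_eq_true h1
    subst e
    obtain ⟨hf, hc1, hc2⟩ := ih _ h3
    have := chain_step (ok_of_chk h2) (okM_of_chk hI h2 hρ) (fun j hj _ => hs j hj)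
      (fun i j hi hj _ _ => hbr i j hi hj) hf hc1 hc2
    simpa only [List.map_cons, List.prod_cons] using this

end Table

end Chain

section Main

variable {T : Tbl} {N : ℕ}

/-- Orders of Coxeter groups from a chain of tables: the action on the points is faithful. -/
theorem coxeter_main (hI : InvT T N) {n : ℕ} (hn : n = T.l) (M : CoxeterMatrix (Fin n)) {cm : ℕ → ℕ → ℕ}
    (hcm : ∀ i j : Fin n, M i j = cm i j) (hrel : chkRel T cm = true) {L : List Lv} {top : ℕ}
    (htop : ∀ j, j < n → tbF top j = true) (hchk : chkChain T cm L top = true) :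
    Nat.card M.Group = (L.map Lv.size).prod ∧
      ∃ ρ : M.Group →* Equiv.Perm (Fin N),
        (∀ (i : Fin n) (r : Fin N), (ρ (M.simple i) r).val = T.refl i r) ∧ Function.Injective ρ := by
  classical
  subst hn
  have hlift : M.IsLiftable (fun i : Fin T.l => rP hI i.1 i.2) := by
    intro i j
    rw [hcm]
    exact rP_rel hI hrel _ _ _ _
  let ρ : M.Group →* Equiv.Perm (Fin N) := M.toCoxeterSystem.lift ⟨_, hlift⟩
  have hρ0 : ∀ i : Fin T.l, ρ (M.simple i) = rP hI i.1 i.2 := fun i =>
    M.toCoxeterSystem.lift_apply_simple hlift i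
  let s : ℕ → M.Group := fun j => if h : j < T.l then M.simple ⟨j, h⟩ else 1
  have hsv : ∀ j (h : j < T.l), s j = M.simple ⟨j, h⟩ := fun j h => dif_pos h
  have hs : ∀ j, j < T.l → s j * s j = 1 := by
    intro j hj
    rw [hsv j hj]
    exact M.toCoxeterSystem.simple_mul_simple_self _
  have hbr : ∀ i j, i < T.l → j < T.l → altP (s i) (s j) (cm i j) = altP (s j) (s i) (cm i j) := by
    intro i j hi hj
    have h1 := altP_mul_inv (hs i hi) (hs j hj) (cm i j)
    have h2 : (s i * s j) ^ cm i j = 1 := by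
      rw [hsv i hi, hsv j hj, ← hcm ⟨i, hi⟩ ⟨j, hj⟩]
      exact M.toCoxeterSystem.simple_mul_simple_pow _ _
    rw [h2] at h1
    exact mul_inv_eq_one.1 h1
  have hρ : ∀ j, j < T.l → ∀ b : Fin N, ((ρ (s j)) b).val = T.refl j b := by
    intro j hj b
    rw [hsv j hj, hρ0]
    rfl
  obtain ⟨hf, hc1, hc2⟩ := chain_all hI hs hbr hρ L top hchk
  have htopE : parab s T.l top = ⊤ := by
    rw [eq_top_iff, ← M.toCoxeterSystem.subgroup_closure_range_simple]
    refine (Subgroup.closure_le _).2 ?_
    rintro _ ⟨i, rfl⟩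
    have e : M.toCoxeterSystem.simple i = s i := by
      rw [hsv i i.2]
      rfl
    rw [e]
    exact s_mem_parab i.2 (htop i i.2)
  rw [htopE] at hf hc1 hc2
  have e1 : Nat.card M.Group = (L.map Lv.size).prod := by
    rw [← hc1]
    exact (Nat.card_congr Subgroup.topEquiv.toEquiv).symm
  have hfG : Finite M.Group := Finite.of_equiv _ (Subgroup.topEquiv.toEquiv)
  refine ⟨e1, ρ, ?_, ?_⟩
  · intro i r
    rw [hρ0]
    rfl
  · let f : M.Group → (⊤ : Subgroup M.Group).map ρ := fun g =>
      ⟨ρ g, Subgroup.mem_map_of_mem ρ (Subgroup.mem_top g)⟩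
    have hfs : Function.Surjective f := by
      rintro ⟨_, h, _, rfl⟩
      exact ⟨h, rfl⟩
    have hb := hfs.bijective_of_nat_card_le (by rw [hc2, e1])
    intro a b e
    exact hb.1 (Subtype.ext e)

/-- Iteration of the action of a word on the roots. -/
noncomputable def iterW (T : Tbl) (w : List ℕ) (r k : ℕ) : ℕ :=
  Nat.rec (motive := fun _ => ℕ) r (fun _ ih => foldrF T.refl ih w) k

/-- The order of the product of the first `n` generators. -/
noncomputable def chkOrd (T : Tbl) (n h : ℕ) : Bool :=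
  and (allBelow T.n fun r => Nat.beq (iterW T (rangeF n) r h) r) <|
  allBelow h fun m => or (Nat.beq m 0) (Tbl.anyF (fun r => not (Nat.beq (iterW T (rangeF n) r m) r)) (rangeF T.n))

lemma anyF_exists' {α : Type*} {f : α → Bool} {l : List α} (h : Tbl.anyF f l = true) : ∃ a ∈ l, f a = true := by
  induction l with
  | nil => exact absurd h (by simp [Tbl.anyF])
  | cons a l ih =>
    have h' : (or (f a) (Tbl.anyF f l)) = true := h
    rw [Bool.or_eq_true] at h'
    rcases h' with h' | h'
    · exact ⟨a, by simp, h'⟩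
    · obtain ⟨b, hb, e⟩ := ih h'
      exact ⟨b, List.mem_cons_of_mem _ hb, e⟩

/-- The order of the Coxeter element from its action on the points. -/
theorem order_cox (hI : InvT T N) {n : ℕ} {M : CoxeterMatrix (Fin n)} {ρ : M.Group →* Equiv.Perm (Fin N)}
    (hρ : ∀ (i : Fin n) (r : Fin N), (ρ (M.simple i) r).val = T.refl i r)
    (hinj : Function.Injective ρ) {h : ℕ} (hpos : 0 < h) (hchk : chkOrd T n h = true) :
    orderOf ((List.finRange n).map M.simple).prod = h := by
  have hlist : ∀ (ω : List (Fin n)) (r : Fin N),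
      (ρ (ω.map M.simple).prod r).val = foldrF T.refl r (ω.map Fin.val) := by
    intro ω r
    induction ω with
    | nil => simp
    | cons i ω ih =>
      rw [List.map_cons, List.prod_cons, map_mul, Equiv.Perm.mul_apply, hρ, ih]
      rfl
  set c := ((List.finRange n).map M.simple).prod with hc
  have hσ : ∀ r : Fin N, (ρ c r).val = foldrF T.refl r (rangeF n) := by
    intro r
    have hr : (List.finRange n).map Fin.val = List.range n := by
      apply List.ext_getElem <;> simp
    rw [hc, hlist, hr, rangeF_eq]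
  have hpow : ∀ (k : ℕ) (r : Fin N), ((ρ c ^ k) r).val = iterW T (rangeF n) r k := by
    intro k r
    induction k with
    | zero => rfl
    | succ k ih =>
      rw [pow_succ', Equiv.Perm.mul_apply, hσ, ih]
      rfl
  rw [← orderOf_injective ρ hinj, orderOf_eq_iff hpos]
  unfold chkOrd at hchk
  rw [Bool.and_eq_true] at hchk
  obtain ⟨h1, h2⟩ := hchk
  constructor
  · ext r
    have := allBelow_spec h1 r (by rw [hI.n_eq]; exact r.2)
    have e := Nat.eq_of_beq_eq_true this
    rw [hpow, e]
    rfl
  · intro m hm hm0 e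
    have := allBelow_spec h2 m hm
    rw [Bool.or_eq_true] at this
    rcases this with h3 | h3
    · have := Nat.eq_of_beq_eq_true h3
      omega
    · obtain ⟨r, hr, h4⟩ := anyF_exists' h3
      have hr' : r < N := by
        rw [rangeF_eq, List.mem_range, hI.n_eq] at hr
        exact hr
      have h5 := hpow m ⟨r, hr'⟩
      rw [e] at h5
      have h6 : r = iterW T (rangeF n) r m := h5
      rw [← h6] at h4
      simp at h4

end Main

end Wey

end Cfsg.Agent.Lib.Chev
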