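/-
Coset tables for the Coxeter group of type E6. Generated.
-/
import Cfsg.Agent.Lib.Chev.Wey
import Cfsg.Agent.Lib.Chev.T3E6

set_option autoImplicit false
set_option maxRecDepth 100000

namespace Cfsg.Agent.Lib.Chev

open Cfsg.Lie

/-- The Coxeter matrix of type E6. -/
def cmE6 (i j : ℕ) : ℕ := digit 0x132222313222231332223123223212222321 4 (Nat.add (Nat.mul i 6) j)

/-- The chain of parabolic subgroups of type E6. -/
def lvsE6 : List Wey.Lv := [
  ⟨63, 62, 27, 0, 72, 0xa444b096f0000000014889512b70000000061112624db00000003802238471d000003c0003c00781e0000003c0003c087e1001f00000003ff000100001c4401c000b8e200e3004001dc07000200006488860000db2403250080862c1900040000a911280000ed481826040c06c0c100200549010128342a00080000d222500000f690284a08142941420040069102025038340010490c20198a0248010030921024518184008089602dc00a440008005214402a940290020092a056c01488001000641880336003200400a4c09b406110002000c700e3838020004000f800fc3c0000008000ffff00000000000000, 0x191a1817161514131211100c0e0a0f080d060b05090704030201001a18191716151413120f0d110b100c0e0a090807040306050201001a191718161514111013120f0e0d0c090a0b0607080504020301001a1918151317141612110e0f100b0c0d08090a07060504030102001a191816171312151411100f0e0d0c0b0a070809050603040201001a191817161415121310110d0e0f0a0b0c09080706050403020001,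 0x100f0e0d0c0c0b0b0a0a0909080808070706060505040403020100, 0x50403010200010003000200040200030201030501040103020000⟩,
  ⟨62, 30, 10, 0, 72, 0xffff00000a444b0000ffff00001488950000ffff00006111260000ffff00038022380000ffff03c0003c000000ffff003c0003c00000ffff1c4401c0000000ffff64888600000000ffffa9112800000000ffffd2225000000000, 0x80907060504030200010907080605040301020009080607050402030100090807040306050201000908070506030402010000000000000000000000, 0x8070605040403020100, 0x5040301020103040500⟩,
  ⟨30, 28, 8, 0, 72, 0xffffd2225003b40000ffffd2625198040000ffffd2a2d428100000ffffd62e5480800000ffffd3237030200000ffffda367101000000fffff23bd002000000ffffffe25000000000, 0x7060302050401000705060403010200070604050203010006070504030200010000000000000000, 0x605040303020100, 0x103020402030100⟩,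
  ⟨28, 24, 4, 0, 72, 0xffffffe25488000000ffffffe27110000000ffffffe3d020000000fffffffe5000000000, 0x203010003010200030200010000000000000000, 0x3020100, 0x4030200⟩,
  ⟨24, 16, 3, 0, 72, 0xfffffffe5480000000fffffffe7100000000ffffffffd000000000, 0x10200020001000000000000000000, 0x20100, 0x40300⟩,
  ⟨16, 0, 2, 0, 72, 0xffffffffd400000000fffffffff000000000, 0x10000000000000000, 0x100, 0x400⟩]

theorem relE6 : Wey.chkRel digE6.tbl cmE6 = true := by decide +kernel

theorem chainE6 : Wey.chkChain digE6.tbl cmE6 lvsE6 63 = true := by decide +kernel

theorem coxE6 : Nat.card CoxeterMatrix.E₆.Group = 51840 ∧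
    ∃ ρ : CoxeterMatrix.E₆.Group →* Equiv.Perm (Fin chevE6.nroots),
      (∀ (i : Fin 6) (r : Fin chevE6.nroots), (ρ (CoxeterMatrix.E₆.simple i) r).val = digE6.tbl.refl i r) ∧
        Function.Injective ρ :=
  Wey.coxeter_main (n := 6) (Wey.invT_of_good good3E6.toGood2) rfl CoxeterMatrix.E₆ (by intro i j; fin_cases i <;> fin_cases j <;> rfl) relE6 (top := 63) (by decide) chainE6

theorem ordE6 : Wey.chkOrd digE6.tbl 6 12 = true := by decide +kernel

theorem coxOrdE6 : orderOf ((List.finRange 6).map CoxeterMatrix.E₆.simple).prod = 12 := by
  obtain ⟨-, ρ, h1, h2⟩ := coxE6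
  exact Wey.order_cox (Wey.invT_of_good good3E6.toGood2) h1 h2 (by norm_num) ordE6

end Cfsg.Agent.Lib.Chev
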