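/-
`N/H` is the Coxeter group: the homomorphism from the Coxeter group to `N/H` is injective, because the Coxeter group
acts faithfully on the roots.
-/
import Cfsg.Agent.Lib.Chev.Wey
import Cfsg.Agent.Lib.Chev.Mono2

set_option autoImplicit false

namespace Cfsg.Agent.Lib.Chev

open Cfsg.Lie

namespace Wey

section

variable {D : ChevalleyDatum} {T : Tbl} (hG : T.Good2 D) {n : ℕ} {M : CoxeterMatrix (Fin n)}
  {ρ : M.Group →* Equiv.Perm (Fin D.nroots)}

lemma rho_word (hρ : ∀ (i : Fin n) (r : Fin D.nroots), (ρ (M.simple i) r).val = T.refl i r)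
    (ω : List (Fin n)) (r : Fin D.nroots) :
    (ρ (M.toCoxeterSystem.wordProd ω) r).val = wperm T (ω.map Fin.val) r := by
  induction ω with
  | nil => simp
  | cons i ω ih =>
    rw [CoxeterSystem.wordProd_cons, map_mul, Equiv.Perm.mul_apply, List.map_cons, wperm_cons, ← ih]
    exact hρ i _

variable (F : Type*) [Field F]

include hG in
/-- The theorem on `N/H`. -/
theorem N_quot (hn : n = D.rank) (hρ : ∀ (i : Fin n) (r : Fin D.nroots), (ρ (M.simple i) r).val = T.refl i r)
    (hinj : Function.Injective ρ) :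
    ∃ φ : ↥(D.monomialSubgroup F) →* M.Group, Function.Surjective φ ∧
      φ.ker = (D.diagonalSubgroup F).subgroupOf (D.monomialSubgroup F) ∧
      ∀ (i : Fin n) (g : ↥(D.monomialSubgroup F)),
        ((g : GL D.Idx F) : Matrix D.Idx D.Idx F) = D.nMat F (D.simple i) 1 → φ g = M.simple i := by
  classical
  set H' := (D.diagonalSubgroup F).subgroupOf (D.monomialSubgroup F) with hH'
  have hNorm : H'.Normal := by
    refine ⟨fun x hx g => ?_⟩
    rw [hH', Subgroup.mem_subgroupOf] at hx ⊢
    exact hG.N_conj_H g.2 hx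
  have hlt : ∀ i : Fin n, (i : ℕ) < D.rank := fun i => hn ▸ i.2
  have hlm : ∀ ω : List (Fin n), ∀ i ∈ ω.map Fin.val, i < D.rank := by
    intro ω i hi
    obtain ⟨j, -, rfl⟩ := List.mem_map.1 hi
    exact hlt j
  let e : (ω : List (Fin n)) → ↥(D.monomialSubgroup F) := fun ω =>
    ⟨hG.nProd (ω.map Fin.val), hG.nProd_mem_N (hlm ω)⟩
  let q : Fin n → ↥(D.monomialSubgroup F) ⧸ H' := fun i => QuotientGroup.mk (e [i])
  have hmul : ∀ ω ω', e (ω ++ ω') = e ω * e ω' := by
    intro ω ω'
    apply Subtype.ext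
    show hG.nProd ((ω ++ ω').map Fin.val) = hG.nProd (ω.map Fin.val) * hG.nProd (ω'.map Fin.val)
    rw [List.map_append, hG.nProd_append]
  have hone : ∀ ω, M.toCoxeterSystem.wordProd ω = 1 → (QuotientGroup.mk (e ω) : ↥(D.monomialSubgroup F) ⧸ H') = 1 := by
    intro ω hω
    rw [QuotientGroup.eq_one_iff, hH', Subgroup.mem_subgroupOf]
    refine hG.nProd_mem_H _ _ rfl (hlm ω) ?_
    intro r hr
    have := rho_word hρ ω ⟨r, hr⟩
    rw [hω] at this
    simpa using this.symm
  have hrep : ∀ (i j : Fin n) (m : ℕ), (q i * q j) ^ m =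
      QuotientGroup.mk (e ((List.replicate m [i, j]).flatten)) := by
    intro i j m
    induction m with
    | zero =>
      symm
      simp only [List.replicate_zero, List.flatten_nil, pow_zero]
      exact hone [] rfl
    | succ m ih =>
      rw [pow_succ', ih, List.replicate_succ, List.flatten_cons, hmul, QuotientGroup.mk_mul]
      have e1 : q i * q j = (QuotientGroup.mk (e [i, j]) : ↥(D.monomialSubgroup F) ⧸ H') := by
        show _ = (QuotientGroup.mk (e ([i] ++ [j])) : ↥(D.monomialSubgroup F) ⧸ H')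
        rw [hmul, QuotientGroup.mk_mul]
      rw [e1]
  have hwrep : ∀ (i j : Fin n) (m : ℕ), M.toCoxeterSystem.wordProd ((List.replicate m [i, j]).flatten) =
      (M.toCoxeterSystem.simple i * M.toCoxeterSystem.simple j) ^ m := by
    intro i j m
    induction m with
    | zero => simp
    | succ m ih =>
      rw [pow_succ', List.replicate_succ, List.flatten_cons, CoxeterSystem.wordProd_append, ih]
      simp [CoxeterSystem.wordProd_cons]
  have hlift : M.IsLiftable q := by
    intro i j
    rw [hrep]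
    apply hone
    rw [hwrep]
    exact M.toCoxeterSystem.simple_mul_simple_pow _ _
  let ψ : M.Group →* ↥(D.monomialSubgroup F) ⧸ H' := M.toCoxeterSystem.lift ⟨q, hlift⟩
  have hψs : ∀ i, ψ (M.toCoxeterSystem.simple i) = q i := fun i => M.toCoxeterSystem.lift_apply_simple hlift i
  have hψw : ∀ ω, ψ (M.toCoxeterSystem.wordProd ω) = QuotientGroup.mk (e ω) := by
    intro ω
    induction ω with
    | nil =>
      rw [CoxeterSystem.wordProd_nil, map_one]
      exact (hone [] rfl).symm
    | cons i ω ih =>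
      rw [CoxeterSystem.wordProd_cons, map_mul, hψs, ih]
      show _ = (QuotientGroup.mk (e ([i] ++ ω)) : ↥(D.monomialSubgroup F) ⧸ H')
      rw [hmul, QuotientGroup.mk_mul]
  have hinjψ : Function.Injective ψ := by
    rw [injective_iff_map_eq_one]
    intro g hg
    obtain ⟨ω, rfl⟩ := M.toCoxeterSystem.wordProd_surjective g
    rw [hψw, QuotientGroup.eq_one_iff, hH', Subgroup.mem_subgroupOf] at hg
    have h1 := hG.wperm_trivial (F := F) (hlm ω) (le_sup_right (a := D.posUnipotent F) hg)
    apply hinj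
    rw [map_one]
    ext r
    rw [rho_word hρ, h1 _ r.2]
    rfl
  have hsurjψ : Function.Surjective ψ := by
    intro x
    obtain ⟨⟨g, hg⟩, rfl⟩ := QuotientGroup.mk_surjective x
    obtain ⟨h, hh, l, hl, rfl⟩ := hG.N_form hg
    have hω : ∃ ω : List (Fin n), ω.map Fin.val = l := by
      clear hg
      induction l with
      | nil => exact ⟨[], rfl⟩
      | cons a l ih =>
        obtain ⟨ω, hω⟩ := ih fun i hi => hl i (List.mem_cons_of_mem _ hi)
        exact ⟨⟨a, hn ▸ hl a (by simp)⟩ :: ω, by simp [hω]⟩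
    obtain ⟨ω, rfl⟩ := hω
    refine ⟨M.toCoxeterSystem.wordProd ω, ?_⟩
    rw [hψw]
    rw [QuotientGroup.eq]
    rw [hH', Subgroup.mem_subgroupOf]
    show (hG.nProd (ω.map Fin.val))⁻¹ * (h * hG.nProd (ω.map Fin.val)) ∈ _
    have h2 := hG.N_conj_H (Subgroup.inv_mem _ (hG.nProd_mem_N (F := F) (hlm ω))) hh
    rwa [inv_inv, mul_assoc] at h2
  let φ : ↥(D.monomialSubgroup F) →* M.Group :=
    (MulEquiv.ofBijective ψ ⟨hinjψ, hsurjψ⟩).symm.toMonoidHom.comp (QuotientGroup.mk' H')
  have hφ : ∀ x, ψ (φ x) = QuotientGroup.mk x := fun x =>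
    (MulEquiv.ofBijective ψ ⟨hinjψ, hsurjψ⟩).apply_symm_apply _
  refine ⟨φ, ?_, ?_, ?_⟩
  · intro w
    obtain ⟨x, hx⟩ := QuotientGroup.mk_surjective (ψ w)
    exact ⟨x, hinjψ (by rw [hφ, hx])⟩
  · ext x
    rw [MonoidHom.mem_ker, ← QuotientGroup.eq_one_iff]
    constructor
    · intro h
      rw [← hφ, h, map_one]
    · intro h
      apply hinjψ
      rw [hφ, h, map_one]
  · intro i g hg
    apply hinjψ
    rw [hφ]
    have e1 : g = e [i] := by
      apply Subtype.ext
      show (g : GL D.Idx F) = hG.nProd ([i].map Fin.val)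
      rw [hG.eq_nU (hlt i) hg, List.map_singleton, hG.nProd_cons, hG.nE_eq (hlt i)]
      simp
    rw [e1]
    exact (hψs i).symm

end

end Wey

end Cfsg.Agent.Lib.Chev
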